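import Mathlib.Algebra.Lie.Classical
import Mathlib.LinearAlgebra.Dimension.Free
import Mathlib.LinearAlgebra.Dimension.Constructions
import Mathlib.LinearAlgebra.StdBasis
import Mathlib.LinearAlgebra.Dimension.StrongRankCondition

/-!
The cokernel of `ad x` on `sl (n+1)` for `x` a nilpotent matrix with Jordan blocks of sizes `n, 1`.
-/

set_option autoImplicit false
universe u

namespace Groth.Agent.SubregLib

open Finset Matrix

variable {O : Type u} [CommRing O] {n : ℕ}

/-- Entries of a matrix indexed by natural numbers. -/
def ent (M : Matrix (Fin (n + 1)) (Fin (n + 1)) O) (i j : ℕ) : O :=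
  if h : i < n + 1 ∧ j < n + 1 then M ⟨i, h.1⟩ ⟨j, h.2⟩ else 0

lemma ent_val (M : Matrix (Fin (n + 1)) (Fin (n + 1)) O) (i j : Fin (n + 1)) :
    ent M i.val j.val = M i j := by
  simp [ent, i.isLt, j.isLt]

/-- The bracket with the nilpotent, on natural number indices. -/
def br (n : ℕ) (N : ℕ → ℕ → O) (i j : ℕ) : O :=
  (if i + 1 < n then N (i + 1) j else 0) - (if 1 ≤ j ∧ j < n then N i (j - 1) else 0)

lemma mul_nil_apply (x N : Matrix (Fin (n + 1)) (Fin (n + 1)) O)
    (hx : ∀ i j, x i j = if j.val = i.val + 1 ∧ j.val < n then 1 else 0) (i j : Fin (n + 1)) :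
    (x * N - N * x) i j = br n (ent N) i.val j.val := by
  rw [Matrix.sub_apply, Matrix.mul_apply, Matrix.mul_apply, br]
  congr 1
  · split_ifs with h
    · rw [Finset.sum_eq_single (⟨i.val + 1, by omega⟩ : Fin (n + 1))]
      · rw [hx, if_pos ⟨rfl, h⟩, one_mul, ← ent_val N]
      · intro b _ hb
        rw [hx, if_neg (fun hh => hb (Fin.ext hh.1)), zero_mul]
      · intro hb; exact absurd (Finset.mem_univ _) hb
    · refine Finset.sum_eq_zero fun b _ => ?_
      rw [hx, if_neg (by omega), zero_mul]
  · split_ifs with h
    · rw [Finset.sum_eq_single (⟨j.val - 1, by omega⟩ : Fin (n + 1))]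
      · rw [hx, if_pos ⟨by show j.val = j.val - 1 + 1; omega, h.2⟩, mul_one, ← ent_val N]
      · intro b _ hb
        rw [hx, if_neg (fun hh => hb (Fin.ext (by show b.val = j.val - 1; omega))), mul_zero]
      · intro hb; exact absurd (Finset.mem_univ _) hb
    · refine Finset.sum_eq_zero fun b _ => ?_
      rw [hx, if_neg (by omega), mul_zero]

/-- Sum of the `k`-th lower diagonal in the big block. -/
def diag (n : ℕ) (m : ℕ → ℕ → O) (k : ℕ) : O := ∑ t ∈ range (n - k), m (k + t) t

lemma diag_br (N : ℕ → ℕ → O) (k : ℕ) : diag n (br n N) k = 0 := by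
  unfold diag
  rcases Nat.eq_zero_or_pos (n - k) with h | h
  · rw [h, Finset.sum_range_zero]
  obtain ⟨L, hL⟩ := Nat.exists_eq_succ_of_ne_zero h.ne'
  rw [hL]
  show ∑ t ∈ range (L + 1), ((if k + t + 1 < n then N (k + t + 1) t else 0) -
    (if 1 ≤ t ∧ t < n then N (k + t) (t - 1) else 0)) = 0
  rw [Finset.sum_sub_distrib, Finset.sum_range_succ, Finset.sum_range_succ' (fun t =>
    if 1 ≤ t ∧ t < n then N (k + t) (t - 1) else (0 : O))]
  rw [if_neg (by omega), if_neg (by omega), add_zero, add_zero, ← Finset.sum_sub_distrib]
  refine Finset.sum_eq_zero fun t ht => ?_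
  have ht' := Finset.mem_range.1 ht
  rw [if_pos (by omega), if_pos (by omega), Nat.add_sub_cancel, ← add_assoc, sub_self]

/-- A preimage. -/
def pre (n : ℕ) (m : ℕ → ℕ → O) (i j : ℕ) : O :=
  if i < n then
    if j < n then ∑ t ∈ range (min i (j + 1)), m (i - 1 - t) (j - t)
    else if i = 0 then 0 else m (i - 1) n
  else if j + 1 < n then -m n (j + 1) else 0

lemma br_pre (hn : 1 ≤ n) (m : ℕ → ℕ → O) (hd : ∀ k, k < n → diag n m k = 0)
    (h0 : m n 0 = 0) (h1 : m (n - 1) n = 0) (h2 : m n n = 0) {i j : ℕ} (hi : i ≤ n) (hj : j ≤ n) :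
    br n (pre n m) i j = m i j := by
  unfold br
  by_cases hi1 : i + 1 < n
  · rw [if_pos hi1]
    unfold pre
    rw [if_pos hi1, if_pos (show i < n by omega)]
    by_cases hjn : j < n
    · rw [if_pos hjn]
      rcases Nat.eq_zero_or_pos j with rfl | hjp
      · rw [if_neg (by omega), sub_zero, show min (i + 1) (0 + 1) = 1 by omega,
          Finset.sum_range_one]
        simp
      · rw [if_pos ⟨hjp, hjn⟩, if_pos (show j - 1 < n by omega),
          show min (i + 1) (j + 1) = min i (j - 1 + 1) + 1 by omega, Finset.sum_range_succ',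
          add_sub_assoc]
        rw [add_comm, sub_add_eq_add_sub, add_sub_assoc]
        convert add_zero (m i j) using 2
        · simp
        · rw [sub_eq_zero]
          refine Finset.sum_congr rfl fun t ht => ?_
          congr 1 <;> omega
    · rw [if_neg hjn, if_neg (by omega), if_neg (by omega), sub_zero]
      obtain rfl : n = j := by omega
      simp
  · rw [if_neg hi1, zero_sub]
    rcases Nat.lt_or_ge i n with hi2 | hi2
    · obtain rfl : i = n - 1 := by omega
      by_cases hjc : 1 ≤ j ∧ j < n
      · rw [if_pos hjc]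
        unfold pre
        rw [if_pos hi2, if_pos (show j - 1 < n by omega),
          show min (n - 1) (j - 1 + 1) = j by omega, neg_eq_iff_add_eq_zero]
        have h := hd (n - 1 - j) (by omega)
        unfold diag at h
        rw [show n - (n - 1 - j) = j + 1 by omega, ← Finset.sum_range_reflect] at h
        rw [← h, Finset.sum_range_succ']
        refine congrArg₂ (· + ·) (Finset.sum_congr rfl fun t ht => ?_) ?_
        · have ht' := Finset.mem_range.1 ht
          congr 1 <;> omega
        · congr 1 <;> omega
      · rw [if_neg hjc, neg_zero]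
        rcases Nat.lt_or_ge j n with hjn | hjn
        · obtain rfl : j = 0 := by omega
          have h := hd (n - 1) (by omega)
          unfold diag at h
          rw [show n - (n - 1) = 1 by omega, Finset.sum_range_one, add_zero] at h
          exact h.symm
        · obtain rfl : n = j := by omega
          exact h1.symm
    · obtain rfl : n = i := by omega
      by_cases hjc : 1 ≤ j ∧ j < n
      · rw [if_pos hjc]
        unfold pre
        rw [if_neg (by omega), if_pos (by omega), neg_neg]
        congr 1 <;> omega
      · rw [if_neg hjc, neg_zero]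
        rcases Nat.lt_or_ge j n with hjn | hjn
        · obtain rfl : j = 0 := by omega
          exact h0.symm
        · obtain rfl : n = j := by omega
          exact h2.symm

lemma br_congr {N N' : ℕ → ℕ → O} {i j : ℕ} (hi : i ≤ n) (hj : j ≤ n)
    (h : ∀ a b, a ≤ n → b ≤ n → N a b = N' a b) : br n N i j = br n N' i j := by
  unfold br
  congr 1
  · split_ifs with h' <;> first | rfl | exact h _ _ (by omega) hj
  · split_ifs with h' <;> first | rfl | exact h _ _ hi (by omega)

lemma diag_congr {m m' : ℕ → ℕ → O} {k : ℕ}
    (h : ∀ a b, a ≤ n → b ≤ n → m a b = m' a b) : diag n m k = diag n m' k :=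
  Finset.sum_congr rfl fun t ht => h _ _ (by have := Finset.mem_range.1 ht; omega)
    (by have := Finset.mem_range.1 ht; omega)

lemma sum_diag (M : Matrix (Fin (n + 1)) (Fin (n + 1)) O) :
    M.trace = diag n (ent M) 0 + ent M n n := by
  have h : M.trace = ∑ t ∈ range (n + 1), ent M t t := by
    rw [← Fin.sum_univ_eq_sum_range (fun t => ent M t t) (n + 1)]
    exact Finset.sum_congr rfl fun i _ => (ent_val M i i).symm
  rw [h, Finset.sum_range_succ, diag, Nat.sub_zero]
  simp

/-- The functionals. -/
def func (n : ℕ) (m : ℕ → ℕ → O) (k : Fin (n + 2)) : O :=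
  if k.val < n then (if k.val = 0 then m n n else diag n m k.val)
  else if k.val = n then m n 0 else m (n - 1) n

theorem finrank_cokernel (hn : 1 ≤ n) (x : LieAlgebra.SpecialLinear.sl (Fin (n + 1)) O)
    (hx : ∀ i j : Fin (n + 1), (x : Matrix (Fin (n + 1)) (Fin (n + 1)) O) i j =
      if j.val = i.val + 1 ∧ j.val < n then 1 else 0) :
    Module.Free O (LieAlgebra.SpecialLinear.sl (Fin (n + 1)) O ⧸
        LinearMap.range (LieAlgebra.ad O (LieAlgebra.SpecialLinear.sl (Fin (n + 1)) O) x)) ∧
      (Nontrivial O → Module.finrank O (LieAlgebra.SpecialLinear.sl (Fin (n + 1)) O ⧸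
        LinearMap.range (LieAlgebra.ad O (LieAlgebra.SpecialLinear.sl (Fin (n + 1)) O) x)) = n + 2) := by
  classical
  let L := LieAlgebra.SpecialLinear.sl (Fin (n + 1)) O
  have hent0 : ∀ (A B : Matrix (Fin (n + 1)) (Fin (n + 1)) O) i j,
      ent (A + B) i j = ent A i j + ent B i j := fun A B i j => by
    unfold ent; split_ifs <;> simp
  have hentc : ∀ (c : O) (A : Matrix (Fin (n + 1)) (Fin (n + 1)) O) i j,
      ent (c • A) i j = c * ent A i j := fun c A i j => by
    unfold ent; split_ifs <;> simp
  let Φ : L →ₗ[O] (Fin (n + 2) → O) :=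
    { toFun := fun M => func n (ent (M : Matrix (Fin (n + 1)) (Fin (n + 1)) O))
      map_add' := fun A B => funext fun k => by
        simp only [func, diag, Pi.add_apply]
        split_ifs <;> simp [hent0, Finset.sum_add_distrib]
      map_smul' := fun c A => funext fun k => by
        simp only [func, diag, Pi.smul_apply, RingHom.id_apply, smul_eq_mul]
        split_ifs <;> simp [hentc, Finset.mul_sum] }
  have htr : ∀ M : L, (M : Matrix (Fin (n + 1)) (Fin (n + 1)) O).trace = 0 := fun M => M.2
  have had : ∀ (N : L) (i j : ℕ), i ≤ n → j ≤ n →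
      ent (⁅x, N⁆ : L).val i j = br n (ent N.val) i j := by
    intro N i j hi hj
    have h := mul_nil_apply x.val N.val hx ⟨i, by omega⟩ ⟨j, by omega⟩
    rw [← ent_val (x.val * N.val - N.val * x.val)] at h
    exact h
  have hrange : LinearMap.range (LieAlgebra.ad O L x) = LinearMap.ker Φ := by
    refine le_antisymm ?_ fun M hM => ?_
    · rintro _ ⟨N, rfl⟩
      refine LinearMap.mem_ker.2 (funext fun k => ?_)
      show func n (ent (⁅x, N⁆ : L).val) k = 0
      unfold func
      split_ifs with h1 h2 h3
      · rw [had N n n le_rfl le_rfl]; unfold br; rw [if_neg (by omega), if_neg (by omega), sub_zero]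
      · rw [diag_congr (m' := br n (ent N.val)) (fun a b ha hb => had N a b ha hb), diag_br]
      · rw [had N n 0 le_rfl (by omega)]; unfold br; rw [if_neg (by omega), if_neg (by omega), sub_zero]
      · rw [had N (n - 1) n (by omega) le_rfl]; unfold br; rw [if_neg (by omega), if_neg (by omega), sub_zero]
    · have hM' : ∀ k, func n (ent M.val) k = 0 := fun k => congrFun (LinearMap.mem_ker.1 hM) k
      have h2 : ent M.val n n = 0 := by
        have h := hM' ⟨0, by omega⟩
        unfold func at h
        rw [if_pos (show (0 : ℕ) < n by omega), if_pos rfl] at h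
        exact h
      have h0 : ent M.val n 0 = 0 := by
        have h := hM' ⟨n, by omega⟩
        unfold func at h
        rw [if_neg (lt_irrefl n), if_pos rfl] at h
        exact h
      have h1 : ent M.val (n - 1) n = 0 := by
        have h := hM' ⟨n + 1, by omega⟩
        unfold func at h
        rw [if_neg (show ¬ n + 1 < n by omega), if_neg (show ¬ n + 1 = n by omega)] at h
        exact h
      have hd : ∀ k, k < n → diag n (ent M.val) k = 0 := by
        intro k hk
        rcases Nat.eq_zero_or_pos k with rfl | hkp
        · have h := sum_diag M.val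
          rw [htr M, h2, add_zero] at h
          exact h.symm
        · have h := hM' ⟨k, by omega⟩
          unfold func at h
          rw [if_pos hk, if_neg hkp.ne'] at h
          exact h
      let P : Matrix (Fin (n + 1)) (Fin (n + 1)) O := fun a b => pre n (ent M.val) a.val b.val
      let P' : Matrix (Fin (n + 1)) (Fin (n + 1)) O :=
        P - Matrix.single (Fin.last n) (Fin.last n) P.trace
      have hP' : P'.trace = 0 := by simp [P']
      refine ⟨⟨P', hP'⟩, Subtype.ext (Matrix.ext fun i j => ?_)⟩
      show (x.val * P' - P' * x.val) i j = M.val i j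
      rw [mul_nil_apply x.val P' hx, ← ent_val M.val,
        ← br_pre hn (ent M.val) hd h0 h1 h2 (i := i.val) (j := j.val) (by omega) (by omega)]
      unfold br
      congr 1
      · split_ifs with h
        · rw [ent, dif_pos (by omega)]
          simp only [P', P, Matrix.sub_apply]
          rw [Matrix.single_apply_of_ne _ _ _ _ _ (by
            rintro ⟨e, -⟩; have := congrArg Fin.val e; simp at this; omega), sub_zero]
        · rfl
      · split_ifs with h
        · rw [ent, dif_pos (by omega)]
          simp only [P', P, Matrix.sub_apply]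
          rw [Matrix.single_apply_of_ne _ _ _ _ _ (by
            rintro ⟨-, e⟩; have := congrArg Fin.val e; simp at this; omega), sub_zero]
        · rfl
  have hsurj : Function.Surjective Φ := by
    intro v
    let f : ℕ → ℕ → O := fun a b =>
      if a = n ∧ b = n then v ⟨0, by omega⟩
      else if a = 0 ∧ b = 0 then -v ⟨0, by omega⟩
      else if a = n ∧ b = 0 then v ⟨n, by omega⟩
      else if a = n - 1 ∧ b = n then v ⟨n + 1, by omega⟩
      else if h : b = 0 ∧ a < n then v ⟨a, by omega⟩ else 0
    let P : Matrix (Fin (n + 1)) (Fin (n + 1)) O := fun a b => f a.val b.val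
    have he : ∀ a b, a ≤ n → b ≤ n → ent P a b = f a b := fun a b ha hb => by
      rw [ent, dif_pos (by omega)]
    have hP : P.trace = 0 := by
      rw [sum_diag, he n n le_rfl le_rfl, diag_congr (m' := f) (fun a b ha hb => he a b ha hb)]
      unfold diag
      rw [Finset.sum_eq_single 0]
      · simp [f, show ¬ n = 0 by omega, show ¬ 0 = n by omega]
      · intro t ht ht0
        have := Finset.mem_range.1 ht
        simp [f, show ¬ t = n by omega, ht0]
      · intro h; exact absurd (Finset.mem_range.2 (by omega)) h
    refine ⟨⟨P, hP⟩, funext fun k => ?_⟩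
    show func n (ent P) k = v k
    obtain ⟨k, hk⟩ := k
    unfold func
    dsimp only
    split_ifs with c1 c2 c3
    · subst c2
      rw [he n n le_rfl le_rfl]
      simp [f]
    · rw [diag_congr (m' := f) (fun a b ha hb => he a b ha hb)]
      unfold diag
      rw [Finset.sum_eq_single 0]
      · simp [f, c1, c2, show ¬ k = n by omega, show ¬ 0 = n by omega]
      · intro t ht ht0
        have := Finset.mem_range.1 ht
        simp [f, ht0, show ¬ t = n by omega]
      · intro h; exact absurd (Finset.mem_range.2 (by omega)) h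
    · subst c3
      rw [he k 0 le_rfl (by omega)]
      simp [f, show ¬ k = 0 by omega, show ¬ 0 = k by omega]
    · obtain rfl : k = n + 1 := by omega
      rw [he (n - 1) n (by omega) le_rfl]
      simp [f, show ¬ n - 1 = n by omega, show ¬ n = 0 by omega]
  let e : (L ⧸ LinearMap.range (LieAlgebra.ad O L x)) ≃ₗ[O] (Fin (n + 2) → O) :=
    (Submodule.quotEquivOfEq _ _ hrange).trans (Φ.quotKerEquivOfSurjective hsurj)
  refine ⟨Module.Free.of_equiv e.symm, fun _ => ?_⟩
  rw [e.finrank_eq]
  simp

end Groth.Agent.SubregLib
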